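import Cfsg.Agent.H371.AlgLemma_m3
import Cfsg.Agent.H94.Sp.Base_m3
import Cfsg.Agent.H371.CycEval
import Cfsg.Agent.H378.RegE7
import Cfsg.Agent.H378.SmallTor_m3
import Cfsg.Agent.S1092
import Cfsg.Agent.S1093
import Cfsg.Agent.Prune
set_option linter.all false

section
prune_inst 0x7fffffffdfffbfffffff7e7ffff9fffc3bd5dfffafdffb4bfffeebffbfffb39e1bedfbaf1de0b8ff1ed6e6f738b97853fb7eefffef6fdc7ffffdfff75ffbee7ff7ffbf8951d798240ffc6ffffbf17f8a7f3fffffffffffffffffffffffffffbeffffffffffff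

-- part: H371/Core/Base
section
prune_inst 0x200040000000000000040002000200005000000000010000400000612000040000044200c021000800000000000000000000000000000000000000000000000420002500d00200000002007580c00000000000000000000000000041000000000000
set_option linter.all false
open scoped Cfsg.Agent.FastGrp

-- part: H371/Ar
section
/-!
# Numbers and prime graph classes for groups with the spectrum of `PSL_2(q)`, `q = p ^ f` odd (helper371)

`Ar p f n m`: `n` odd, `m` even, `{n, m} = {(p ^ f - 1) / 2, (p ^ f + 1) / 2}`, `n ≥ 3`.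
`Sp S p n m`: all element orders of `S` divide `p`, `n` or `m`.
-/

set_option autoImplicit false

namespace Cfsg.Agent.H371

open Cfsg.Agent.H94

/-- The arithmetic of `q = p ^ f`. -/
structure Ar (p f n m : ℕ) : Prop where
  hp : p.Prime
  hp2 : p ≠ 2
  hf : f ≠ 0
  hn : Odd n
  hm : Even m
  hn3 : 3 ≤ n
  hm2 : 2 ≤ m
  h : (2 * n = p ^ f + 1 ∧ 2 * m + 1 = p ^ f) ∨ (2 * n + 1 = p ^ f ∧ 2 * m = p ^ f + 1)

namespace Ar
variable {p f n m : ℕ} (A : Ar p f n m)
include A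

theorem podd : p % 2 = 1 := by
  rcases A.hp.eq_two_or_odd with h | h
  · exact absurd h A.hp2
  · exact h

theorem p3 : 3 ≤ p := by
  have := A.hp.two_le
  have := A.podd
  omega

theorem two_dvd_m : 2 ∣ m := A.hm.two_dvd

theorem not_two_dvd_n : ¬ 2 ∣ n := by
  have := A.hn
  rw [Nat.odd_iff] at this
  omega

theorem not_two_dvd_p : ¬ 2 ∣ p := by
  have := A.podd
  omega

theorem dvd_pow : p ∣ p ^ f := dvd_pow_self p A.hf

theorem not_p_dvd_n : ¬ p ∣ n := by
  intro h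
  have h2 : p ∣ 2 * n := h.mul_left 2
  rcases A.h with ⟨h1, -⟩ | ⟨h1, -⟩
  · rw [h1, Nat.dvd_add_right A.dvd_pow] at h2
    exact A.hp.one_lt.ne' (Nat.dvd_one.1 h2)
  · have h3 := A.dvd_pow
    rw [← h1, Nat.dvd_add_right h2] at h3
    exact A.hp.one_lt.ne' (Nat.dvd_one.1 h3)

theorem not_p_dvd_m : ¬ p ∣ m := by
  intro h
  have h2 : p ∣ 2 * m := h.mul_left 2
  rcases A.h with ⟨-, h1⟩ | ⟨-, h1⟩
  · have h3 := A.dvd_pow
    rw [← h1, Nat.dvd_add_right h2] at h3
    exact A.hp.one_lt.ne' (Nat.dvd_one.1 h3)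
  · rw [h1, Nat.dvd_add_right A.dvd_pow] at h2
    exact A.hp.one_lt.ne' (Nat.dvd_one.1 h2)

theorem cop_pn : p.Coprime n := (Nat.Prime.coprime_iff_not_dvd A.hp).2 A.not_p_dvd_n

theorem cop_pm : p.Coprime m := (Nat.Prime.coprime_iff_not_dvd A.hp).2 A.not_p_dvd_m

theorem n_m : n = m + 1 ∨ m = n + 1 := by
  have := A.h
  omega

theorem cop_nm : n.Coprime m := by
  rcases A.n_m with h | h
  · rw [h]
    exact (Nat.coprime_self_add_left).2 (Nat.coprime_one_left m)
  · rw [h]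
    exact (Nat.coprime_self_add_right).2 (Nat.coprime_one_right n)

/-- all divisors -/
theorem pf_pos : 0 < p ^ f := pow_pos A.hp.pos f

theorem p_le : p ≤ p ^ f := Nat.le_of_dvd A.pf_pos A.dvd_pow

end Ar

/-- All element orders divide `p`, `n` or `m`. -/
def Sp (S : Type*) [Group S] (p n m : ℕ) : Prop :=
  ∀ g : S, orderOf g ∣ p ∨ orderOf g ∣ n ∨ orderOf g ∣ m

namespace Sp
variable {S : Type*} [Group S] {p f n m : ℕ}

theorem map {T : Type*} [Group T] (h : Sp S p n m) (φ : T →* S) (hφ : Function.Injective φ) :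
    Sp T p n m := by
  intro g
  have := h (φ g)
  rwa [orderOf_injective φ hφ] at this

theorem of_surj {T : Type*} [Group T] (h : Sp S p n m) (φ : S →* T) (hφ : Function.Surjective φ) :
    Sp T p n m := by
  intro g
  obtain ⟨g, rfl⟩ := hφ g
  have h1 := orderOf_map_dvd φ g
  rcases h g with h | h | h
  · exact Or.inl (h1.trans h)
  · exact Or.inr (Or.inl (h1.trans h))
  · exact Or.inr (Or.inr (h1.trans h))

/-- an order with a prime (or any divisor > 1) in common with `p` -/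
theorem dvd_p (h : Sp S p n m) (A : Ar p f n m) {g : S} (hg : p ∣ orderOf g) : orderOf g = p := by
  rcases h g with h1 | h1 | h1
  · exact Nat.dvd_antisymm h1 hg
  · exact absurd (hg.trans h1) A.not_p_dvd_n
  · exact absurd (hg.trans h1) A.not_p_dvd_m

theorem dvd_n (h : Sp S p n m) (A : Ar p f n m) {g : S} {a : ℕ} (ha : a ≠ 1) (han : a ∣ n)
    (hg : a ∣ orderOf g) : orderOf g ∣ n := by
  rcases h g with h1 | h1 | h1
  · exact absurd (Nat.eq_one_of_dvd_coprimes A.cop_pn (hg.trans h1) han) ha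
  · exact h1
  · exact absurd (Nat.eq_one_of_dvd_coprimes A.cop_nm han (hg.trans h1)) ha

theorem dvd_m (h : Sp S p n m) (A : Ar p f n m) {g : S} {a : ℕ} (ha : a ≠ 1) (ham : a ∣ m)
    (hg : a ∣ orderOf g) : orderOf g ∣ m := by
  rcases h g with h1 | h1 | h1
  · exact absurd (Nat.eq_one_of_dvd_coprimes A.cop_pm (hg.trans h1) ham) ha
  · exact absurd (Nat.eq_one_of_dvd_coprimes A.cop_nm (hg.trans h1) ham) ha
  · exact h1

theorem dvd_m_of_even (h : Sp S p n m) (A : Ar p f n m) {g : S} (hg : 2 ∣ orderOf g) : orderOf g ∣ m :=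
  h.dvd_m A (by norm_num) A.two_dvd_m hg

/-- adjacency with `p` is impossible -/
theorem not_adj_p (h : Sp S p n m) (A : Ar p f n m) {r : ℕ} (hr : r.Prime) (g : S) :
    orderOf g ≠ p * r := by
  intro hg
  have h1 := h.dvd_p A (Dvd.intro _ hg.symm)
  rw [h1] at hg
  have h2 := hr.two_le
  have h3 := A.hp.pos
  nlinarith only [hg, h2, h3]

theorem not_adj_n (h : Sp S p n m) (A : Ar p f n m) {r s : ℕ} (hr : r.Prime) (hrn : r ∣ n)
    (hsn : ¬ s ∣ n) (g : S) : orderOf g ≠ r * s := by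
  intro hg
  have h1 := h.dvd_n A hr.one_lt.ne' hrn (Dvd.intro _ hg.symm)
  exact hsn ((Dvd.intro_left _ hg.symm).trans h1)

section conn

theorem exists_mul_of_adj {a b : ℕ} (h : PG.Adj S a b) : ∃ g : S, orderOf g = a * b := by
  obtain ⟨ha, hb, hab, x, y, hx, hy, hc⟩ := h
  refine ⟨x * y, ?_⟩
  rw [hc.orderOf_mul_eq_mul_orderOf_of_coprime, hx, hy]
  rw [hx, hy]
  exact (Nat.coprime_primes ha hb).2 hab

/-- the class of `p` -/
theorem conn_p (h : Sp S p n m) (A : Ar p f n m) {b : ℕ} (hc : PG.Conn S p b) : b = p := by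
  unfold PG.Conn at hc
  induction hc with
  | refl => rfl
  | tail _ h2 ih =>
    subst ih
    obtain ⟨ha, hb, hab, x, y, hx, hy, hc⟩ := h2
    exfalso
    refine h.not_adj_p A hb (x * y) ?_
    rw [hc.orderOf_mul_eq_mul_orderOf_of_coprime, hx, hy]
    rw [hx, hy]
    exact (Nat.coprime_primes ha hb).2 hab

/-- the class of `n` -/
theorem conn_n (h : Sp S p n m) (A : Ar p f n m) {a b : ℕ} (han : a ∣ n)
    (hc : PG.Conn S a b) : b ∣ n := by
  unfold PG.Conn at hc
  induction hc with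
  | refl => exact han
  | tail _ h2 ih =>
    obtain ⟨ha, hb, hab, x, y, hx, hy, hc⟩ := h2
    by_contra hbn
    refine h.not_adj_n A ha ih hbn (x * y) ?_
    rw [hc.orderOf_mul_eq_mul_orderOf_of_coprime, hx, hy]
    rw [hx, hy]
    exact (Nat.coprime_primes ha hb).2 hab

/-- the class of `2` -/
theorem conn_two (h : Sp S p n m) (A : Ar p f n m) {a b : ℕ} (ham : a ∣ m)
    (hc : PG.Conn S a b) : b ∣ m := by
  unfold PG.Conn at hc
  induction hc with
  | refl => exact ham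
  | tail _ h2 ih =>
    obtain ⟨ha, hb, hab, x, y, hx, hy, hc⟩ := h2
    obtain ⟨g, h1⟩ := exists_mul_of_adj ⟨ha, hb, hab, x, y, hx, hy, hc⟩
    exact (Dvd.intro_left _ h1.symm).trans (h.dvd_m A ha.one_lt.ne' ih (Dvd.intro _ h1.symm))

theorem not_conn_two_p (h : Sp S p n m) (A : Ar p f n m) : ¬ PG.Conn S 2 p := fun hc =>
  A.not_p_dvd_m (h.conn_two A A.two_dvd_m hc)

theorem not_conn_two_n (h : Sp S p n m) (A : Ar p f n m) {r : ℕ} (hr : r.Prime) (hrn : r ∣ n) :
    ¬ PG.Conn S 2 r := fun hc =>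
  hr.one_lt.ne' (Nat.eq_one_of_dvd_coprimes A.cop_nm hrn (h.conn_two A A.two_dvd_m hc))

theorem not_conn_p_n (h : Sp S p n m) (A : Ar p f n m) {r : ℕ} (hrn : r ∣ n) :
    ¬ PG.Conn S p r := fun hc => by
  have := h.conn_p A hc
  subst this
  exact A.not_p_dvd_n hrn

end conn

end Sp

end Cfsg.Agent.H371
end

-- part: H371/ArNum
section
/-!
# Arithmetic for the recognition of `PSL_2(q)`, `q` odd (helper371)
-/

set_option autoImplicit false

namespace Cfsg.Agent.H371.Ar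

variable {p f n m : ℕ}

/-- `p = n ± 2` only for `q = 5, 9`. -/
theorem pm_two (A : Ar p f n m) (h : p = n + 2 ∨ n = p + 2) : p ^ f = 5 ∨ p ^ f = 9 := by
  have hp3 := A.p3
  have hn3 := A.hn3
  obtain ⟨e, he⟩ : ∃ e, f = e + 1 := ⟨f - 1, by have := A.hf; omega⟩
  have hpow : p ^ f = p ^ e * p := by rw [he, pow_succ]
  have hA := A.h
  rcases Nat.eq_zero_or_pos e with he0 | he0
  · rw [he0, pow_zero, one_mul] at hpow
    rw [hpow] at hA ⊢
    (clear * - h hn3 hA; omega)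
  · have h1 : p ≤ p ^ e := Nat.le_self_pow (by omega) p
    have h2 : p * p ≤ p ^ f := by rw [hpow]; exact Nat.mul_le_mul_right p h1
    have h3 : p ^ f ≤ 2 * n + 1 := by omega
    rcases h with h | h
    · exfalso
      nlinarith only [h2, h3, h]
    · -- p * p ≤ 2 p + 5
      have h4 : p = 3 := by
        by_contra hne
        have : 4 ≤ p := by omega
        nlinarith only [hpow, h1, h3, h, this]
      have h5 : n = 5 := by omega
      rw [h5] at hA
      have h6 : p ^ f = 9 ∨ p ^ f = 11 := by omega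
      rcases h6 with h6 | h6
      · exact Or.inr h6
      · exfalso
        have := A.dvd_pow
        rw [h6, h4] at this
        omega

/-- signs -/
theorem exists_eps (A : Ar p f n m) : ∃ e : ℤ, (e = 1 ∨ e = -1) ∧ 2 * (n : ℤ) = (p : ℤ) ^ f + e ∧
    2 * (m : ℤ) = (p : ℤ) ^ f - e ∧ (m : ℤ) = n - e := by
  rcases A.h with ⟨h1, h2⟩ | ⟨h1, h2⟩
  · refine ⟨1, Or.inl rfl, ?_, ?_, ?_⟩
    · exact_mod_cast h1
    · have : 2 * (m : ℤ) + 1 = (p : ℤ) ^ f := by exact_mod_cast h2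
      linarith only [h2]
    · have : 2 * (m : ℤ) + 1 = (p : ℤ) ^ f := by exact_mod_cast h2
      have h3 : 2 * (n : ℤ) = (p : ℤ) ^ f + 1 := by exact_mod_cast h1
      linarith
  · refine ⟨-1, Or.inr rfl, ?_, ?_, ?_⟩
    · have : 2 * (n : ℤ) + 1 = (p : ℤ) ^ f := by exact_mod_cast h1
      linarith
    · have : 2 * (m : ℤ) = (p : ℤ) ^ f + 1 := by exact_mod_cast h2
      linarith
    · have h3 : 2 * (n : ℤ) + 1 = (p : ℤ) ^ f := by exact_mod_cast h1
      have : 2 * (m : ℤ) = (p : ℤ) ^ f + 1 := by exact_mod_cast h2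
      linarith

/-- Case `s = p`. -/
theorem caseI {g n' m' : ℕ} (A : Ar p f n m) (B : Ar p g n' m') {t : ℕ} (ht : n = n' * t)
    (htg : t ≤ g) : p ^ f = p ^ g := by
  have hp3 := A.p3
  obtain ⟨e, he, h1, -, -⟩ := A.exists_eps
  obtain ⟨e', he', h1', -, -⟩ := B.exists_eps
  have hg0 : 1 ≤ g := Nat.one_le_iff_ne_zero.2 B.hf
  have ht1 : 1 ≤ t := by
    rcases Nat.eq_zero_or_pos t with h | h
    · rw [h, mul_zero] at ht
      have := A.hn3
      omega
    · exact h
  have hz : (p : ℤ) ^ f + e = t * ((p : ℤ) ^ g + e') := by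
    rw [← h1, ← h1', ht]
    push_cast
    ring
  -- g ≤ f
  have hgf : g ≤ f := by
    by_contra hcon
    have h2 : p ^ (f + 1) ≤ p ^ g := Nat.pow_le_pow_right (by omega) (by omega)
    have h3 : (p : ℤ) ^ (f + 1) ≤ (p : ℤ) ^ g := by exact_mod_cast h2
    have h4 : (n' : ℤ) ≤ n := by
      rw [ht]
      exact_mod_cast Nat.le_mul_of_pos_right n' (by omega)
    have h5 : (3 : ℤ) ≤ (p : ℤ) ^ f := by
      have : 3 ≤ p ^ f := hp3.trans A.p_le
      exact_mod_cast this
    have h6 : (p : ℤ) ^ (f + 1) = (p : ℤ) ^ f * p := pow_succ _ _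
    have h7 : (3 : ℤ) ≤ p := by exact_mod_cast hp3
    rcases he with rfl | rfl <;> rcases he' with rfl | rfl <;> nlinarith only [hp3, h2, h4, h5, h6, h1, h1']
  -- divisibility
  have hd : (p : ℤ) ^ g ∣ e - t * e' := by
    have h2 : (p : ℤ) ^ g ∣ (p : ℤ) ^ f := pow_dvd_pow _ hgf
    have h3 : e - t * e' = t * (p : ℤ) ^ g - (p : ℤ) ^ f := by linarith only [hz]
    rw [h3]
    exact dvd_sub (Dvd.intro_left _ rfl) h2
  have hlt : g + 1 < p ^ g := by
    have h2 : ∀ k, 1 ≤ k → k + 1 < 3 ^ k := by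
      intro k hk
      induction k, hk using Nat.le_induction with
      | base => norm_num
      | succ k _ ih => rw [pow_succ]; omega
    exact lt_of_lt_of_le (h2 g hg0) (Nat.pow_le_pow_left hp3 g)
  have hlt' : (g : ℤ) + 1 < (p : ℤ) ^ g := by exact_mod_cast hlt
  have ht' : (t : ℤ) ≤ g := by exact_mod_cast htg
  have ht1' : (1 : ℤ) ≤ t := by exact_mod_cast ht1
  have hzero : e - t * e' = 0 := by
    apply Int.eq_zero_of_abs_lt_dvd hd
    rw [abs_lt]
    rcases he with rfl | rfl <;> rcases he' with rfl | rfl <;> constructor <;> linarith only [htg, hlt]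
  have hee : e = e' ∧ (t : ℤ) = 1 := by
    rcases he with rfl | rfl <;> rcases he' with rfl | rfl <;> constructor <;> linarith only [hzero]
  rw [hee.1, hee.2, one_mul] at hz
  have : (p : ℤ) ^ f = (p : ℤ) ^ g := by linarith only [hz]
  exact_mod_cast this

/-- Case `s ≠ p`. -/
theorem caseII {s g m' a : ℕ} (A : Ar p f n m) (B : Ar s g p m') (hn : n = s ^ a) (hm : m' ∣ m)
    (ha : s ^ (a - 1) ≤ g) : p ^ f = 9 := by
  have hs3 := B.p3
  have hp3 := A.p3
  have hn3 := A.hn3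
  have ha1 : 1 ≤ a := by
    rcases Nat.eq_zero_or_pos a with h | h
    · rw [h, pow_zero] at hn
      omega
    · exact h
  have hg1 : 1 ≤ g := Nat.one_le_iff_ne_zero.2 B.hf
  have hmpos : 0 < m := by have := A.hm2; omega
  have hmle : m' ≤ m := Nat.le_of_dvd hmpos hm
  have hA := A.h
  have hB := B.h
  have hle : s ^ g ≤ 2 * s ^ a + 3 := by
    rw [← hn]
    omega
  rcases Nat.lt_or_ge a g with hag | hag
  · exfalso
    have h1 : s ^ (a + 1) ≤ s ^ g := Nat.pow_le_pow_right (by omega) hag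
    rw [pow_succ] at h1
    have h2 : s ≤ s ^ a := Nat.le_self_pow (by omega) s
    have hs : s = 3 := by
      by_contra hne
      have h4 : 4 ≤ s := by omega
      nlinarith only [hle, h1, h2, h4]
    subst hs
    have h3 : (3 : ℕ) ^ a = 3 := by omega
    have ha' : a = 1 := by
      have : (3 : ℕ) ^ a = 3 ^ 1 := by rw [h3, pow_one]
      exact Nat.pow_right_injective (le_refl 2 |>.trans (by norm_num)) this
    subst ha'
    rw [pow_one] at hn
    subst hn
    have h4 : (3 : ℕ) ^ g ≤ 9 := by rw [h3] at hle; exact hle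
    have h5 : g = 2 := by
      by_contra hne
      have : 3 ^ 3 ≤ 3 ^ g := Nat.pow_le_pow_right (by norm_num) (by omega)
      omega
    rw [h5] at hB
    have hp5 : p = 5 := by
      have := B.hn
      rw [Nat.odd_iff] at this
      (clear * - hB this; omega)
    subst hp5
    have hd := A.dvd_pow
    omega
  · have ha' : a = 1 := by
      by_contra hne
      have h2 : ∀ k, 1 ≤ k → k + 1 < 3 ^ k := by
        intro k hk
        induction k, hk using Nat.le_induction with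
        | base => norm_num
        | succ k _ ih => rw [pow_succ]; omega
      have h3 := h2 (a - 1) (by omega)
      have h4 : 3 ^ (a - 1) ≤ s ^ (a - 1) := Nat.pow_le_pow_left hs3 _
      omega
    subst ha'
    have hg : g = 1 := by omega
    subst hg
    rw [pow_one] at hn hB
    subst hn
    have hd := A.dvd_pow
    have h1 : p ∣ 3 ∨ p ∣ 1 := by
      -- `p ^ f = 4 p ± 1 ± 2`
      have h2 : p ∣ 4 * p := Dvd.intro_left _ rfl
      have h3 : p ^ f + 3 = 4 * p ∨ p ^ f + 1 = 4 * p ∨ 4 * p + 1 = p ^ f ∨ 4 * p + 3 = p ^ f := by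
        omega
      rcases h3 with h3 | h3 | h3 | h3
      · rw [← h3] at h2
        exact Or.inl ((Nat.dvd_add_right hd).1 h2)
      · rw [← h3] at h2
        exact Or.inr ((Nat.dvd_add_right hd).1 h2)
      · rw [← h3] at hd
        exact Or.inr ((Nat.dvd_add_right h2).1 hd)
      · rw [← h3] at hd
        exact Or.inl ((Nat.dvd_add_right h2).1 hd)
    have hp : p = 3 := by
      rcases h1 with h1 | h1
      · exact (Nat.prime_dvd_prime_iff_eq A.hp Nat.prime_three).1 h1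
      · exact absurd (Nat.dvd_one.1 h1) A.hp.one_lt.ne'
    subst hp
    have h4 : n = 5 ∨ n = 7 := by omega
    have h5 : 3 ^ f ≤ 15 := by omega
    have h6 : f ≤ 2 := by
      by_contra hcon
      have : 3 ^ 3 ≤ 3 ^ f := Nat.pow_le_pow_right (by norm_num) (by omega)
      omega
    have h7 : f ≠ 0 := A.hf
    have h8 : f = 1 ∨ f = 2 := by omega
    rcases h8 with h8 | h8
    · rw [h8] at hA; omega
    · rw [h8]; norm_num

/-- **Numerics of `PSL_2(s ^ g)`, `s` odd, inside a group with the spectrum of `PSL_2(p ^ f)`.** -/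
theorem eq_of_psl {s g n' m' : ℕ} (A : Ar p f n m) (B : Ar s g n' m')
    (hn' : n' ∣ p ∨ n' ∣ n ∨ n' ∣ m) (hm' : m' ∣ p ∨ m' ∣ n ∨ m' ∣ m)
    (hp : p = s ∨ p ∣ n' ∨ p ∣ m') (hr : ∀ r : ℕ, r.Prime → r ∣ n → r = s ∨ r ∣ n' ∨ r ∣ m')
    {j k : ℕ} (hjk : n = j * k) (hj : j ∣ g) (hk : k ∣ s ∨ k ∣ n' ∨ k ∣ m') (h9 : p ^ f ≠ 9) :
    p ^ f = s ^ g := by
  -- `m' ∣ m`
  have hmm : m' ∣ m := by
    rcases hm' with h | h | h
    · exact absurd (B.two_dvd_m.trans h) A.not_two_dvd_p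
    · exact absurd (B.two_dvd_m.trans h) A.not_two_dvd_n
    · exact h
  have hpm' : ¬ p ∣ m' := fun h => A.not_p_dvd_m (h.trans hmm)
  have hrm' : ∀ r : ℕ, r ∣ n → r ∣ m' → r = 1 := fun r h1 h2 =>
    Nat.eq_one_of_dvd_coprimes A.cop_nm h1 (h2.trans hmm)
  have hkn : k ∣ n := by rw [hjk]; exact Dvd.intro_left _ rfl
  obtain ⟨r, hrp, hrn⟩ := Nat.exists_prime_and_dvd (n := n) (by have := A.hn3; omega)
  have hgpos : 0 < g := Nat.pos_of_ne_zero B.hf
  by_cases hps : p = s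
  · subst hps
    have hrn' : r ∣ n' := by
      rcases hr r hrp hrn with h | h | h
      · exact absurd (h ▸ hrn) A.not_p_dvd_n
      · exact h
      · exact absurd (hrm' r hrn h) hrp.one_lt.ne'
    have hn'n : n' ∣ n := by
      rcases hn' with h | h | h
      · exfalso
        have h1 : n' = 1 ∨ n' = p := (Nat.dvd_prime A.hp).1 h
        rcases h1 with h1 | h1
        · have := B.hn3; omega
        · exact B.not_p_dvd_n (h1 ▸ dvd_rfl)
      · exact h
      · exact absurd (Nat.eq_one_of_dvd_coprimes A.cop_nm hrn (hrn'.trans h)) hrp.one_lt.ne'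
    have hkn' : k ∣ n' := by
      rcases hk with h | h | h
      · have : k = 1 := Nat.eq_one_of_dvd_coprimes A.cop_pn h hkn
        rw [this]; exact one_dvd _
      · exact h
      · rw [hrm' k hkn h]; exact one_dvd _
    obtain ⟨t, ht⟩ := hn'n
    obtain ⟨c, hc⟩ := hkn'
    have hk0 : 0 < k := by
      rcases Nat.eq_zero_or_pos k with h | h
      · rw [h, mul_zero] at hjk
        have := A.hn3
        omega
      · exact h
    have htj : t ∣ j := by
      have h1 : k * j = k * (c * t) := by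
        rw [mul_comm k j, ← hjk, ht, hc]; ring
      have h2 := Nat.eq_of_mul_eq_mul_left hk0 h1
      exact ⟨c, by rw [h2, mul_comm]⟩
    exact A.caseI B ht (Nat.le_of_dvd hgpos (htj.trans hj))
  · exfalso
    apply h9
    have hpn' : p ∣ n' := by
      rcases hp with h | h | h
      · exact absurd h hps
      · exact h
      · exact absurd h hpm'
    have hn'p : n' = p := by
      rcases hn' with h | h | h
      · exact Nat.dvd_antisymm h hpn'
      · exact absurd (hpn'.trans h) A.not_p_dvd_n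
      · exact absurd (hpn'.trans h) A.not_p_dvd_m
    subst hn'p
    have hall : ∀ {d : ℕ}, d.Prime → d ∣ n → d = s := by
      intro d hd hdn
      rcases hr d hd hdn with h | h | h
      · exact h
      · rw [(Nat.prime_dvd_prime_iff_eq hd A.hp).1 h] at hdn
        exact absurd hdn A.not_p_dvd_n
      · exact absurd (hrm' d hdn h) hd.one_lt.ne'
    have hn0 : n ≠ 0 := by have := A.hn3; omega
    have hpow := Nat.eq_prime_pow_of_unique_prime_dvd hn0 hall
    set a := n.primeFactorsList.length with ha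
    have ha1 : 1 ≤ a := by
      rcases Nat.eq_zero_or_pos a with h | h
      · rw [h, pow_zero] at hpow
        have := A.hn3
        omega
      · exact h
    have hks : k ∣ s := by
      rcases hk with h | h | h
      · exact h
      · have : k = 1 := Nat.eq_one_of_dvd_coprimes A.cop_pn h hkn
        rw [this]; exact one_dvd _
      · rw [hrm' k hkn h]; exact one_dvd _
    have hle : s ^ (a - 1) ∣ j := by
      have h1 : s ^ (a - 1) * s ∣ j * s := by
        rw [← pow_succ, Nat.sub_add_cancel ha1, ← hpow, hjk]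
        exact Nat.mul_dvd_mul_left _ hks
      exact Nat.dvd_of_mul_dvd_mul_right B.hp.pos h1
    exact A.caseII B hpow hmm (Nat.le_of_dvd hgpos (hle.trans hj))

end Cfsg.Agent.H371.Ar
end

-- part: H371/Core/Base
section
/-!
# The simple groups with element orders dividing `p`, `n`, `m` (helper371)

`Bad S p f n m`: all element orders of `S` divide `p`, `n` or `m`, and `p`, `n` are element orders.
`Two S`: of any two odd primes dividing `|S|`, one is connected to `2` or they are connected.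
-/

set_option autoImplicit false

namespace Cfsg.Agent.H371.Core

open Cfsg.Agent.H94 Cfsg.Agent.H564.NearTwo

/-- all element orders of `S` divide `p`, `n` or `m`, and `p`, `n` are element orders -/
structure Bad (S : Type*) [Group S] (p f n m : ℕ) : Prop where
  A : Ar p f n m
  sp : Sp S p n m
  gp : ∃ g : S, orderOf g = p
  gn : ∃ g : S, orderOf g = n

/-- at most two prime graph components -/
def Two (S : Type*) [Group S] : Prop :=
  ∀ {a b : ℕ}, a.Prime → b.Prime → a ≠ 2 → b ≠ 2 → a ∣ Nat.card S → b ∣ Nat.card S →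
    PG.Conn S 2 a ∨ PG.Conn S 2 b ∨ PG.Conn S a b

namespace Bad
variable {S : Type*} [Group S] {p f n m : ℕ}

theorem congr {T : Type*} [Group T] (B : Bad S p f n m) (e : S ≃* T) : Bad T p f n m where
  A := B.A
  sp := B.sp.map e.symm.toMonoidHom e.symm.injective
  gp := by
    obtain ⟨g, hg⟩ := B.gp
    exact ⟨e g, by rw [← hg]; exact orderOf_injective e.toMonoidHom e.injective g⟩
  gn := by
    obtain ⟨g, hg⟩ := B.gn
    exact ⟨e g, by rw [← hg]; exact orderOf_injective e.toMonoidHom e.injective g⟩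

variable (B : Bad S p f n m)
include B

theorem dvd_p' : p ∣ Nat.card S := by
  obtain ⟨g, hg⟩ := B.gp
  rw [← hg]
  exact orderOf_dvd_natCard g

theorem dvd_n' {r : ℕ} (hr : r ∣ n) : r ∣ Nat.card S := by
  obtain ⟨g, hg⟩ := B.gn
  refine hr.trans ?_
  rw [← hg]
  exact orderOf_dvd_natCard g

theorem exists_prime : ∃ r : ℕ, r.Prime ∧ r ∣ n := by
  have := B.A.hn3
  obtain ⟨r, hr⟩ := Nat.exists_prime_and_dvd (n := n) (by omega)
  exact ⟨r, hr⟩

theorem ne_two {r : ℕ} (hr : r ∣ n) : r ≠ 2 := by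
  rintro rfl
  exact B.A.not_two_dvd_n hr

theorem not_two : ¬ Two S := by
  intro h
  obtain ⟨r, hr, hrn⟩ := B.exists_prime
  rcases h B.A.hp hr B.A.hp2 (B.ne_two hrn) B.dvd_p' (B.dvd_n' hrn) with h1 | h1 | h1
  · exact B.sp.not_conn_two_p B.A h1
  · exact B.sp.not_conn_two_n B.A hr hrn h1
  · exact B.sp.not_conn_p_n B.A hrn h1

theorem not_conn_p : ¬ PG.Conn S 2 p := B.sp.not_conn_two_p B.A

theorem not_conn_n {r : ℕ} (hr : r.Prime) (hrn : r ∣ n) : ¬ PG.Conn S 2 r := B.sp.not_conn_two_n B.A hr hrn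

/-- the primes of `|S|` -/
theorem prime_cases [Finite S] {r : ℕ} (hr : r.Prime) (h : r ∣ Nat.card S) : r = p ∨ r ∣ n ∨ r ∣ m := by
  have := Fact.mk hr
  obtain ⟨g, hg⟩ := exists_prime_orderOf_dvd_card' r h
  rcases B.sp g with h1 | h1 | h1
  · rw [hg] at h1
    exact Or.inl ((Nat.prime_dvd_prime_iff_eq hr B.A.hp).1 h1)
  · rw [hg] at h1
    exact Or.inr (Or.inl h1)
  · rw [hg] at h1
    exact Or.inr (Or.inr h1)

/-- an element order divisible by `p` is `p` -/
theorem eq_p {T : ℕ} (h : ∃ g : S, orderOf g = T) (hT : p ∣ T) : T = p := by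
  obtain ⟨g, rfl⟩ := h
  exact B.sp.dvd_p B.A hT

/-- an element order having a prime in common with `n` divides `n` -/
theorem dvd_n {T : ℕ} (h : ∃ g : S, orderOf g = T) {r : ℕ} (hr : r.Prime) (hrn : r ∣ n) (hrT : r ∣ T) : T ∣ n := by
  obtain ⟨g, rfl⟩ := h
  exact B.sp.dvd_n B.A hr.one_lt.ne' hrn hrT

/-- an element order having a prime in common with `m` divides `m` -/
theorem dvd_m {T : ℕ} (h : ∃ g : S, orderOf g = T) {r : ℕ} (hr : r.Prime) (hrn : r ∣ m) (hrT : r ∣ T) : T ∣ m := by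
  obtain ⟨g, rfl⟩ := h
  exact B.sp.dvd_m B.A hr.one_lt.ne' hrn hrT

theorem dvd_m_two {T : ℕ} (h : ∃ g : S, orderOf g = T) (hrT : 2 ∣ T) : T ∣ m :=
  B.dvd_m h Nat.prime_two B.A.two_dvd_m hrT

/-- `n` divides the order of the centralizers of the elements of prime order `r ∣ n`. -/
theorem n_dvd_of_centralizer [Finite S] {T r : ℕ} (hr : r.Prime) (hrn : r ∣ n)
    (h : ∀ x : S, orderOf x = r → Nat.card ↥(Subgroup.centralizer {x}) = T) : n ∣ T := by
  obtain ⟨g, hg⟩ := B.gn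
  obtain ⟨k, hk⟩ := hrn
  have hn0 : 0 < n := by have := B.A.hn3; omega
  have hk0 : k ≠ 0 := by
    rintro rfl
    omega
  have hgk : orderOf (g ^ k) = r := by
    rw [orderOf_pow' g hk0, hg, Nat.gcd_eq_right (Dvd.intro_left r hk.symm), hk]
    exact Nat.mul_div_cancel r (Nat.pos_of_ne_zero hk0)
  rw [← h _ hgk, ← hg]
  have hmem : g ∈ Subgroup.centralizer {g ^ k} := by
    rw [Subgroup.mem_centralizer_singleton_iff]
    exact (Commute.self_pow g k)
  rw [← Subgroup.orderOf_mk g hmem]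
  exact orderOf_dvd_natCard _

/-- the numbers: `2 n = p ^ f ± 1` -/
theorem p_dvd : p ∣ 2 * n + 1 ∨ p ∣ 2 * n - 1 := by
  have h1 := B.A.dvd_pow
  have h2 := B.A.pf_pos
  rcases B.A.h with ⟨h, -⟩ | ⟨h, -⟩
  · right
    have : 2 * n - 1 = p ^ f := by omega
    rw [this]
    exact h1
  · left
    rw [h]
    exact h1

end Bad

theorem Two.congr {S T : Type*} [Group S] [Group T] (e : S ≃* T) (h : Two S) : Two T := by
  intro a b ha hb ha2 hb2 hda hdb
  rw [← Nat.card_congr e.toEquiv] at hda hdb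
  rcases h ha hb ha2 hb2 hda hdb with h | h | h
  · exact Or.inl (h.map e.toMonoidHom e.injective)
  · exact Or.inr (Or.inl (h.map e.toMonoidHom e.injective))
  · exact Or.inr (Or.inr (h.map e.toMonoidHom e.injective))

end Cfsg.Agent.H371.Core
end
end

-- part: H371/Core/Num
section
set_option linter.all false
open scoped Cfsg.Agent.FastGrp

/-!
# Numerical elimination (helper371)
-/

set_option autoImplicit false

namespace Cfsg.Agent.H371.Core

open Cfsg.Agent.H94 Cfsg.Agent.H564.NearTwo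

/-- the numerical test -/
def Ok (p n : ℕ) : Prop := 3 ≤ n ∧ ((2 * n + 1) ∣ p ^ 30 ∨ (2 * n - 1) ∣ p ^ 30)

instance (p n : ℕ) : Decidable (Ok p n) := inferInstanceAs (Decidable (_ ∧ _))

/-- all sub-products avoiding `p` fail the test, or are in the list -/
def Chk (R : Finset ℕ) (L : List (ℕ × ℕ)) : Prop :=
  ∀ p ∈ R, ∀ T ∈ (R.erase p).powerset, Ok p (∏ r ∈ T, r) → (p, ∏ r ∈ T, r) ∈ L

instance (R : Finset ℕ) (L : List (ℕ × ℕ)) : Decidable (Chk R L) :=
  inferInstanceAs (Decidable (∀ p ∈ R, ∀ T ∈ (R.erase p).powerset, Ok p (∏ r ∈ T, r) → (p, ∏ r ∈ T, r) ∈ L))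

namespace Bad
variable {S : Type*} [Group S] {p f n m : ℕ} (B : Bad S p f n m)
include B

theorem n_lt_pow {k : ℕ} (hk : 2 * n + 1 < 3 ^ k) : f < k := by
  by_contra h
  have h1 : 3 ^ k ≤ p ^ f := (Nat.pow_le_pow_right (by norm_num) (not_lt.1 h)).trans
    (Nat.pow_le_pow_left B.A.p3 f)
  have h2 := B.A.h
  omega

theorem n_m_dvd : (n = m + 1 ∧ p ∣ 2 * n - 1) ∨ (m = n + 1 ∧ p ∣ 2 * n + 1) := by
  have h1 := B.A.dvd_pow
  rcases B.A.h with ⟨h, h'⟩ | ⟨h, h'⟩
  · left
    have : 2 * n - 1 = p ^ f := by omega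
    rw [this]
    exact ⟨by omega, h1⟩
  · right
    rw [h]
    exact ⟨by omega, h1⟩

theorem ok (hk : 2 * n + 1 < 3 ^ 31) : Ok p n := by
  have h1 := B.n_lt_pow hk
  have h2 : p ^ f ∣ p ^ 30 := pow_dvd_pow p (by omega)
  refine ⟨B.A.hn3, ?_⟩
  rcases B.A.h with ⟨h, -⟩ | ⟨h, -⟩
  · right
    have : 2 * n - 1 = p ^ f := by omega
    rw [this]
    exact h2
  · left
    rw [h]
    exact h2

/-- **squarefree case** -/
theorem finset (R : Finset ℕ) (hR : ∀ r, r.Prime → r ∣ Nat.card S → PG.Conn S 2 r ∨ r ∈ R)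
    (h0 : ∀ r ∈ R, 1 ≤ r) (hsq : ∀ r ∈ R, ¬ r ^ 2 ∣ Nat.card S) (hbd : 2 * ∏ r ∈ R, r + 1 < 3 ^ 31)
    {L : List (ℕ × ℕ)} (hL : Chk R L) : (p, n) ∈ L := by
  have hn3 := B.A.hn3
  have hcn : n ∣ Nat.card S := B.dvd_n' dvd_rfl
  have hmem : ∀ r, r.Prime → r ∣ n → r ∈ R.erase p := by
    intro r hr hrn
    rcases hR r hr (hrn.trans hcn) with h | h
    · exact absurd h (B.not_conn_n hr hrn)
    · refine Finset.mem_erase.2 ⟨?_, h⟩
      rintro rfl
      exact B.A.not_p_dvd_n hrn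
  have hp : p ∈ R := (hR p B.A.hp B.dvd_p').resolve_left B.not_conn_p
  have hsf : Squarefree n := by
    rw [Nat.squarefree_iff_prime_squarefree]
    intro r hr hrr
    have h1 := hmem r hr ((dvd_mul_right r r).trans hrr)
    exact hsq r (Finset.mem_of_mem_erase h1) (by rw [pow_two]; exact hrr.trans hcn)
  have hT : n.primeFactors ⊆ R.erase p := by
    intro r hr
    exact hmem r (Nat.prime_of_mem_primeFactors hr) (Nat.dvd_of_mem_primeFactors hr)
  have hprod := Nat.prod_primeFactors_of_squarefree hsf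
  have hle : n ≤ ∏ r ∈ R, r := by
    conv_lhs => rw [← hprod]
    exact Finset.prod_le_prod_of_subset_of_one_le' (hT.trans (Finset.erase_subset _ _)) (fun i hi _ => h0 i hi)
  have h1 := hL p hp n.primeFactors (Finset.mem_powerset.2 hT)
  rw [hprod] at h1
  exact h1 (B.ok (by omega))

/-- the same with no exception -/
theorem finset_false (R : Finset ℕ) (hR : ∀ r, r.Prime → r ∣ Nat.card S → PG.Conn S 2 r ∨ r ∈ R)
    (h0 : ∀ r ∈ R, 1 ≤ r) (hsq : ∀ r ∈ R, ¬ r ^ 2 ∣ Nat.card S) (hbd : 2 * ∏ r ∈ R, r + 1 < 3 ^ 31)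
    (hL : Chk R []) : False := by
  have := B.finset R hR h0 hsq hbd hL
  simp at this

/-- the same with the order -/
theorem card_false {N : ℕ} (hN : Nat.card S = N) (R : Finset ℕ)
    (hR : ∀ r, r.Prime → r ∣ Nat.card S → PG.Conn S 2 r ∨ r ∈ R)
    (h : (∀ r ∈ R, 1 ≤ r) ∧ (∀ r ∈ R, ¬ r ^ 2 ∣ N) ∧ 2 * ∏ r ∈ R, r + 1 < 3 ^ 31 ∧ Chk R []) : False :=
  B.finset_false R hR h.1 (by rw [hN]; exact h.2.1) h.2.2.1 h.2.2.2

end Bad

end Cfsg.Agent.H371.Core
end

-- part: H371/Core/Torus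
section
set_option linter.all false
open scoped Cfsg.Agent.FastGrp

/-!
# Groups whose isolated primes lie in cyclic tori (helper371)
-/

set_option autoImplicit false
set_option linter.unusedSectionVars false

namespace Cfsg.Agent.H371.Core

open Cfsg.Agent.H94 Cfsg.Agent.H378.ExcAdj Cfsg.Agent.H371.CycEval

universe u v

/-- the primes modulo which `q` has order `m` belong to cyclic tori of order `T`, which are the centralizers of their
elements of such orders -/
structure Tor (S : Type*) [Group S] (q m T : ℕ) : Prop where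
  ex : ∃ g : S, orderOf g = T
  dv : ∀ r : ℕ, r.Prime → od q r = m → r ∣ T
  ct : ∀ r : ℕ, r.Prime → od q r = m → ∀ x : S, orderOf x = r → Nat.card ↥(Subgroup.centralizer {x}) = T

theorem Bad.torus {S : Type*} [Group S] [Finite S] {p f n m : ℕ} (B : Bad S p f n m) {q : ℕ} (L : List (ℕ × ℕ))
    (h1 : ∀ r, r.Prime → r ∣ Nat.card S → ¬ PG.Conn S 2 r → ∃ t ∈ L, od q r = t.1)
    (h2 : ∀ t ∈ L, Tor S q t.1 t.2) : ∃ t ∈ L, ∃ t' ∈ L, p = t.2 ∧ n = t'.2 := by
  obtain ⟨t, ht, hpt⟩ := h1 p B.A.hp B.dvd_p' B.not_conn_p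
  obtain ⟨r, hr, hrn⟩ := B.exists_prime
  obtain ⟨t', ht', hrt⟩ := h1 r hr (B.dvd_n' hrn) (B.not_conn_n hr hrn)
  have T := h2 t ht
  have T' := h2 t' ht'
  refine ⟨t, ht, t', ht', (B.eq_p T.ex (T.dv p B.A.hp hpt)).symm, ?_⟩
  exact Nat.dvd_antisymm (B.n_dvd_of_centralizer hr hrn (T'.ct r hr hrt))
    (B.dvd_n T'.ex hr hrn (T'.dv r hr hrt))

/-- the order of a unit modulo `r` -/
theorem od_facts {q r m : ℕ} (hr : r.Prime) (hm : m ≠ 0) (h : od q r = m) : ¬ r ∣ q ∧ m < r := by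
  have := Fact.mk hr
  have h0 : (q : ZMod r) ≠ 0 := by
    intro h0
    rw [od, h0] at h
    apply hm
    rw [← h, orderOf_eq_zero_iff', ]
    intro k hk h1
    rw [zero_pow hk.ne'] at h1
    exact zero_ne_one h1
  refine ⟨fun hd => h0 ((ZMod.natCast_eq_zero_iff q r).2 hd), ?_⟩
  have h1 : m ∣ r - 1 := by
    rw [← h]
    exact ZMod.orderOf_dvd_card_sub_one h0
  have h2 := Nat.le_of_dvd (by have := hr.two_le; omega) h1
  have := hr.two_le
  omega

section

open CoxeterSystem Subgroup Cfsg Cfsg.Lie Cfsg.Lie.ChevalleyDatum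
open Cfsg.Agent.ChevalleyStructure Cfsg.Agent.ChevalleyStructure.Elts Cfsg.Agent.ChevalleyStructure.CoxeterGeom
  Cfsg.Agent.ChevalleyStructure.CoxeterGeomTypes Cfsg.Agent.ChevalleyStructure.NPerm
open Cfsg.Agent.Tits.Roots Cfsg.Agent.Tits.Core Cfsg.Agent.Nodes.Reps Cfsg.Agent.Nodes.BNOf
  Cfsg.Agent.Nodes.RGDChev Cfsg.Agent.Nodes.Bruhat
open Cfsg.Agent.KFacts.RgdField Cfsg.Agent.KFacts.RgdChevCoord Cfsg.Agent.BpExc.TorCent Cfsg.Agent.BpExc.TorChev
open Cfsg.Agent.BpExc.Tow Cfsg.Agent.BpExc.TowChev Cfsg.Agent.BpExc.FamExt Cfsg.Agent.BpExc.FamUntw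
  Cfsg.Agent.BpExc.FamInst Cfsg.Agent.BpExc.LangFr Cfsg.Agent.BpExc.FamField
open Cfsg.Agent.H378.TorDual Cfsg.Agent.H378.AdjTab Cfsg.Agent.H378.CycTab
open Cfsg.Agent.H493.PGTorus Cfsg.Agent.H129.WData

variable {D : ChevalleyDatum} {l : ℕ} {M : CoxeterMatrix (Fin l)} (hp : IsType D l M)
  {W : Type*} [Group W] [Finite W] (cs : CoxeterSystem M W)

include hp cs in
theorem exists_orderOf_tor {B : Fin l → Fin l → ℤ} (hB : InvC D l 1 B) {A : Mat l}
    (hA : ∀ i j, A i j = cartanOf D l i j) {L : List (Fin l × Mat l)} (hL : ChainOK A L)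
    {f : ℕ} {c : Fin (f + 1) → ℤ} {V : Fin (f + 1) → Fin l → ℤ} {U : Fin l → ℤ} (h : EigOK (hd L) c V U)
    {F : Type u} [Field F] [Finite F] {N : ℕ} (hN : 0 < N) (hdv : (N : ℤ) ∣ pv c (Nat.card F : ℕ)) :
    ∃ g : ↥(D.group F), orderOf g = N := by
  obtain ⟨x, -, -, hx, -⟩ := exists_comm_torus hp cs hB one_ne_zero hA hL h h (F := F) hN hN hdv hdv
  rw [Nat.gcd_one_left, mul_one] at hx
  obtain ⟨y, -, hy⟩ := H371.exists_orderOf_of_dvd (isOfFinOrder_of_finite x) hx
  exact ⟨y, hy⟩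

include hp cs in
theorem tor_of {B : Fin l → Fin l → ℤ} (hB : InvC D l 1 B) {A : Mat l}
    (hA : ∀ i j, A i j = cartanOf D l i j) {L : List (Fin l × Mat l)} (hL : ChainOK A L)
    {f : ℕ} {c : Fin (f + 1) → ℤ} {V : Fin (f + 1) → Fin l → ℤ} {U : Fin l → ℤ} (h : EigOK (hd L) c V U)
    {m : ℕ} (hm : 2 < m) (hl : m.totient = l) (hpv : ∀ q : ℤ, pv c q = ev m q)
    (hW : ∀ r : ℕ, r.Prime → r ∣ Nat.card W → r ≤ m) (F : Type u) [Field F] [Finite F]
    (hdv : ∀ r : ℕ, r.Prime → od (Nat.card F) r = m → (r : ℤ) ∣ pv c (Nat.card F : ℕ)) :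
    Tor ↥(D.group F) (Nat.card F) m (ev m (Nat.card F : ℕ)).natAbs := by
  have hpos := ev_pos hm (Nat.card F : ℕ)
  have hdv' : ∀ r : ℕ, r.Prime → od (Nat.card F) r = m → (r : ℤ) ∣ ev m (Nat.card F : ℕ) := by
    intro r hr h
    rw [← hpv]
    exact hdv r hr h
  refine ⟨?_, ?_, ?_⟩
  · refine exists_orderOf_tor hp cs hB hA hL h (by omega) ?_
    rw [hpv, Int.natCast_natAbs, abs_dvd]
  · intro r hr h
    exact Int.natCast_dvd.1 (hdv' r hr h)
  · intro r hr h x hx
    obtain ⟨h1, h2⟩ := od_facts hr (by omega) h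
    have h3 := H378.Regular.centralizer_fin hp cs hB hr h1 hx (fun h => absurd (hW r hr h) (by omega)) (by omega) hl
      (fun h => absurd (Nat.le_of_dvd (by omega) h) (by omega)) (hdv' r hr h)
    exact h3.2.1

end

end Cfsg.Agent.H371.Core
end

-- part: H371/Core/Fam
section
prune_inst 0x20004000000000000002000200020000500000000000140000000000240000008000420000210008800004000000000000000000000000000000000000000010202807d0c00000000000005000000000000000000000000000000000000000000000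
set_option linter.all false
open scoped Cfsg.Agent.FastGrp

/-!
# `G₂(q)`, `F₄(q)`, `E₈(q)` (helper371)
-/

set_option autoImplicit false
set_option linter.unusedSectionVars false

namespace Cfsg.Agent.H371.Core

open CoxeterSystem Subgroup Cfsg Cfsg.Lie Cfsg.Lie.ChevalleyDatum
open Cfsg.Agent.ChevalleyStructure.CoxeterGeomTypes
open Cfsg.Agent.Nodes.RGDChev
open Cfsg.Agent.BpExc.RowsUntw Cfsg.Agent.BpExc.FamInst
open Cfsg.Agent.H378 Cfsg.Agent.H378.SmallTor Cfsg.Agent.H378.AdjTab Cfsg.Agent.H378.CycTab Cfsg.Agent.H378.ExcAdj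
open Cfsg.Agent.H94 Cfsg.Agent.H371.CycEval

universe u

/-- `p = 2 n - e` if `p ^ 2` is too big -/
theorem eq_one_of_sq {p f n m : ℕ} (A : Ar p f n m) (h : 2 * n + 1 < p ^ 2) :
    ∃ e : ℤ, (e = 1 ∨ e = -1) ∧ (p : ℤ) = 2 * n - e ∧ (m : ℤ) = n - e := by
  have hf := A.hf
  have hf1 : f = 1 := by
    by_contra hne
    have h1 : p ^ 2 ≤ p ^ f := Nat.pow_le_pow_right A.hp.pos (by omega)
    have h2 := A.h
    omega
  subst hf1
  obtain ⟨e, he, h1, -, h3⟩ := A.exists_eps
  rw [pow_one] at h1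
  exact ⟨e, he, by omega, h3⟩

theorem cast_sq {p n : ℕ} (h : 2 * (n : ℤ) + 1 < (p : ℤ) ^ 2) : 2 * n + 1 < p ^ 2 := by exact_mod_cast h

/-! ### `G₂(q)` -/

theorem tor_G2_3 (F : Type u) [Field F] [Finite F] :
    Tor ↥(chevG2.group F) (Nat.card F) 3 (ev 3 (Nat.card F : ℕ)).natAbs := by
  let cs : CoxeterSystem CoxeterMatrix.G₂ CoxeterMatrix.G₂.Group := CoxeterMatrix.G₂.toCoxeterSystem
  have := finite_W g2T cs
  refine tor_of g2T cs inv_G2 AdjG2.hA AdjG2.chain3 AdjG2.tor3_3 (by norm_num) (by decide)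
    (fun q => by rw [pv3, ev3]) ?_ F (fun r hr h => dvd3 hr h)
  intro r hr h
  rw [Cfsg.Agent.S1092.result (⟨2, CoxeterMatrix.G₂⟩, 12) (by simp)] at h
  have h' : r ∣ 2 ^ 2 * 3 := h
  rcases hr.dvd_mul.1 h' with h' | h'
  · have := (Nat.prime_dvd_prime_iff_eq hr Nat.prime_two).1 (hr.dvd_of_dvd_pow h')
    omega
  · exact Nat.le_of_dvd (by norm_num) h'

theorem tor_G2_6 (F : Type u) [Field F] [Finite F] :
    Tor ↥(chevG2.group F) (Nat.card F) 6 (ev 6 (Nat.card F : ℕ)).natAbs := by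
  let cs : CoxeterSystem CoxeterMatrix.G₂ CoxeterMatrix.G₂.Group := CoxeterMatrix.G₂.toCoxeterSystem
  have := finite_W g2T cs
  refine tor_of g2T cs inv_G2 AdjG2.hA AdjG2.chain6 AdjG2.tor6_6 (by norm_num) (by decide)
    (fun q => by rw [pv6, ev6]) ?_ F (fun r hr h => dvd6 hr h)
  intro r hr h
  rw [Cfsg.Agent.S1092.result (⟨2, CoxeterMatrix.G₂⟩, 12) (by simp)] at h
  have h' : r ∣ 2 ^ 2 * 3 := h
  rcases hr.dvd_mul.1 h' with h' | h'
  · have := (Nat.prime_dvd_prime_iff_eq hr Nat.prime_two).1 (hr.dvd_of_dvd_pow h')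
    omega
  · have := Nat.le_of_dvd (by norm_num) h'
    omega

/-- numerics for `G₂(q)` -/
theorem num_G2 {p f n m : ℕ} (A : Ar p f n m) {q : ℤ} (hq : 3 ≤ q)
    (hp : (p : ℤ) = q ^ 2 + q + 1 ∨ (p : ℤ) = q ^ 2 - q + 1) (hn : (n : ℤ) = q ^ 2 + q + 1 ∨ (n : ℤ) = q ^ 2 - q + 1) :
    q = 3 ∧ m = 6 := by
  have hne : (p : ℤ) ≠ n := by
    intro h
    have h1 : p = n := by exact_mod_cast h
    exact A.not_p_dvd_n (dvd_of_eq h1)
  obtain ⟨e, he, h1, h2⟩ := eq_one_of_sq A (cast_sq (by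
    have hp' : q ^ 2 - q + 1 ≤ p := by rcases hp with h | h <;> linarith only [hq, h]
    have hn' : (n : ℤ) ≤ q ^ 2 + q + 1 := by rcases hn with h | h <;> linarith only [h, hq]
    have h3 : (q ^ 2 - q + 1) ^ 2 ≤ (p : ℤ) ^ 2 := by
      have : 0 ≤ q ^ 2 - q + 1 := by nlinarith only [hq]
      nlinarith only [hp', this]
    have h4 : 2 * (q ^ 2 + q + 1) + 1 < (q ^ 2 - q + 1) ^ 2 := by nlinarith only [hq, sq_nonneg (q - 3), mul_self_nonneg (q ^ 2 - 3 * q)]
    linarith))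
  rcases hp with hp | hp <;> rcases hn with hn | hn
  · exact absurd (hp.trans hn.symm) hne
  · have h3 : q * (q - 3) = e - 1 := by rw [hp, hn] at h1; linarith
    have hq3 : q = 3 := by
      rcases he with rfl | rfl
      · have : q * (q - 3) = 0 := by rw [h3]; norm_num
        rcases mul_eq_zero.1 this with h | h <;> (clear * - hq hp hn h1 h; omega)
      · exfalso
        nlinarith only [hq, hp, hn, h1]
    subst hq3
    refine ⟨rfl, ?_⟩
    rcases he with rfl | rfl <;> omega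
  · exfalso
    rcases he with rfl | rfl <;> linarith only [hq, hp, hn, h1]
  · exact absurd (hp.trans hn.symm) hne

theorem not_G2' (F : Type u) [Field F] [Finite F] (hF : 3 ≤ Nat.card F) {p f n m : ℕ}
    (B : Bad ↥(chevG2.group F) p f n m) : False := by
  obtain ⟨t, ht, t', ht', hp, hn⟩ := B.torus (q := Nat.card F)
    [(3, (ev 3 (Nat.card F : ℕ)).natAbs), (6, (ev 6 (Nat.card F : ℕ)).natAbs)]
    (by
      intro r hr hd hnc
      rcases adj_G2 F hr hd with h | h | h | h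
      · rw [h] at hnc
        exact absurd Relation.ReflTransGen.refl hnc
      · exact absurd h.conn.symm hnc
      · exact ⟨(3, (ev 3 (Nat.card F : ℕ)).natAbs), by simp only [_root_.List.mem_cons, _root_.Prod.mk.injEq, _root_.Nat.reduceEqDiff, _root_.false_and, _root_.List.not_mem_nil, _root_.or_self, _root_.or_false], h⟩
      · exact ⟨(6, (ev 6 (Nat.card F : ℕ)).natAbs), by simp only [_root_.List.mem_cons, _root_.Prod.mk.injEq, _root_.Nat.reduceEqDiff, _root_.false_and, _root_.List.not_mem_nil, _root_.or_false, _root_.or_true], h⟩)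
    (by
      intro t ht
      simp only [List.mem_cons, List.not_mem_nil, or_false] at ht
      rcases ht with rfl | rfl
      · exact tor_G2_3 F
      · exact tor_G2_6 F)
  have h3 : (((ev 3 (Nat.card F : ℕ)).natAbs : ℕ) : ℤ) = (Nat.card F : ℤ) ^ 2 + Nat.card F + 1 := by
    rw [← ev3, Int.natCast_natAbs, abs_of_pos (ev_pos (by norm_num) _)]
  have h6 : (((ev 6 (Nat.card F : ℕ)).natAbs : ℕ) : ℤ) = (Nat.card F : ℤ) ^ 2 - Nat.card F + 1 := by
    rw [← ev6, Int.natCast_natAbs, abs_of_pos (ev_pos (by norm_num) _)]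
  simp only [List.mem_cons, List.not_mem_nil, or_false] at ht ht'
  have key := num_G2 B.A (q := (Nat.card F : ℤ)) (by exact_mod_cast hF)
    (by rcases ht with rfl | rfl
        · left; rw [hp, h3]
        · right; rw [hp, h6])
    (by rcases ht' with rfl | rfl
        · left; rw [hn, h3]
        · right; rw [hn, h6])
  obtain ⟨hq3, hm6⟩ := key
  let cs : CoxeterSystem CoxeterMatrix.G₂ CoxeterMatrix.G₂.Group := CoxeterMatrix.G₂.toCoxeterSystem
  have := finite_W g2T cs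
  have h4 := exists_orderOf_tor g2T cs inv_G2 AdjG2.hA AdjG2.row2.1 AdjG2.row2.2.2 (F := F) (N := 4) (by norm_num)
    (by rw [pv2, hq3]; norm_num)
  have := B.dvd_m_two h4 (by norm_num)
  omega

/-- **No `G₂(q)`.** -/
theorem not_G2 {S : Type*} [Group S] (h : Cfsg.Lie.IsoChevG2 S) {p f n m : ℕ} (B : Bad S p f n m) : False := by
  obtain ⟨F, _, _, hF, ⟨e⟩⟩ := h
  exact not_G2' F (by rw [Nat.card_eq_fintype_card]; exact hF) (B.congr e)

/-! ### `F₄(q)` -/

theorem prime_le_three {r : ℕ} (hr : r.Prime) {a b : ℕ} (h : r ∣ 2 ^ a * 3 ^ b) : r ≤ 3 := by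
  rcases hr.dvd_mul.1 h with h' | h'
  · have := (Nat.prime_dvd_prime_iff_eq hr Nat.prime_two).1 (hr.dvd_of_dvd_pow h')
    omega
  · exact ((Nat.prime_dvd_prime_iff_eq hr Nat.prime_three).1 (hr.dvd_of_dvd_pow h')).le

theorem tor_F4_8 (F : Type u) [Field F] [Finite F] :
    Tor ↥(chevF4.group F) (Nat.card F) 8 (ev 8 (Nat.card F : ℕ)).natAbs := by
  let cs : CoxeterSystem CoxeterMatrix.F₄ CoxeterMatrix.F₄.Group := CoxeterMatrix.F₄.toCoxeterSystem
  have := finite_W f4T cs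
  refine tor_of f4T cs inv_F4 AdjF4.hA AdjF4.chain8 AdjF4.tor8_8 (by norm_num) (by decide)
    (fun q => by rw [pv8, ev8]) ?_ F (fun r hr h => dvd8 hr h)
  intro r hr h
  rw [Cfsg.Agent.S1092.result (⟨4, CoxeterMatrix.F₄⟩, 1152) (by simp)] at h
  have := prime_le_three hr (a := 7) (b := 2) h
  omega

theorem tor_F4_12 (F : Type u) [Field F] [Finite F] :
    Tor ↥(chevF4.group F) (Nat.card F) 12 (ev 12 (Nat.card F : ℕ)).natAbs := by
  let cs : CoxeterSystem CoxeterMatrix.F₄ CoxeterMatrix.F₄.Group := CoxeterMatrix.F₄.toCoxeterSystem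
  have := finite_W f4T cs
  refine tor_of f4T cs inv_F4 AdjF4.hA AdjF4.chain12 AdjF4.tor12_12 (by norm_num) (by decide)
    (fun q => by rw [pv12, ev12]) ?_ F (fun r hr h => dvd12 hr h)
  intro r hr h
  rw [Cfsg.Agent.S1092.result (⟨4, CoxeterMatrix.F₄⟩, 1152) (by simp)] at h
  have := prime_le_three hr (a := 7) (b := 2) h
  omega

/-- numerics for `F₄(q)` -/
theorem num_F4 {p f n m : ℕ} (A : Ar p f n m) {q : ℤ} (hq : 2 ≤ q)
    (hp : (p : ℤ) = q ^ 4 + 1 ∨ (p : ℤ) = q ^ 4 - q ^ 2 + 1) (hn : (n : ℤ) = q ^ 4 + 1 ∨ (n : ℤ) = q ^ 4 - q ^ 2 + 1) :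
    False := by
  have hne : (p : ℤ) ≠ n := by
    intro h
    have h1 : p = n := by exact_mod_cast h
    exact A.not_p_dvd_n (dvd_of_eq h1)
  obtain ⟨x, hx⟩ : ∃ x : ℤ, x = q ^ 2 := ⟨_, rfl⟩
  have hx4 : 4 ≤ x := by rw [hx]; nlinarith
  have e : q ^ 4 = x ^ 2 := by rw [hx]; ring
  rw [e, ← hx] at hp hn
  obtain ⟨e, he, h1, h2⟩ := eq_one_of_sq A (cast_sq (by
    have hp' : x ^ 2 - x + 1 ≤ p := by rcases hp with h | h <;> linarith only [hx4, h]
    have hn' : (n : ℤ) ≤ x ^ 2 + 1 := by rcases hn with h | h <;> linarith only [h, hx4]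
    have h3 : (x ^ 2 - x + 1) ^ 2 ≤ (p : ℤ) ^ 2 := by
      have : 0 ≤ x ^ 2 - x + 1 := by nlinarith only []
      nlinarith only [hp', this]
    have h5 : 3 * x + 1 ≤ x ^ 2 - x + 1 := by nlinarith only [hx4]
    have h4 : 2 * (x ^ 2 + 1) + 1 < (x ^ 2 - x + 1) ^ 2 := by nlinarith only [hx4, h5]
    linarith))
  rcases hp with hp | hp <;> rcases hn with hn | hn
  · exact absurd (hp.trans hn.symm) hne
  · rcases he with rfl | rfl <;> nlinarith only [hx4, hp, hn, h1]
  · rcases he with rfl | rfl <;> linarith only [hx4, hp, hn, h1]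
  · exact absurd (hp.trans hn.symm) hne

theorem not_F4' (F : Type u) [Field F] [Finite F] {p f n m : ℕ}
    (B : Bad ↥(chevF4.group F) p f n m) : False := by
  obtain ⟨t, ht, t', ht', hp, hn⟩ := B.torus (q := Nat.card F)
    [(8, (ev 8 (Nat.card F : ℕ)).natAbs), (12, (ev 12 (Nat.card F : ℕ)).natAbs)]
    (by
      intro r hr hd hnc
      rcases adj_F4 F hr hd with h | h | h | h
      · rw [h] at hnc
        exact absurd Relation.ReflTransGen.refl hnc
      · exact absurd h.conn.symm hnc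
      · exact ⟨(8, (ev 8 (Nat.card F : ℕ)).natAbs), by simp only [_root_.List.mem_cons, _root_.Prod.mk.injEq, _root_.Nat.reduceEqDiff, _root_.false_and, _root_.List.not_mem_nil, _root_.or_self, _root_.or_false], h⟩
      · exact ⟨(12, (ev 12 (Nat.card F : ℕ)).natAbs), by simp only [_root_.List.mem_cons, _root_.Prod.mk.injEq, _root_.Nat.reduceEqDiff, _root_.false_and, _root_.List.not_mem_nil, _root_.or_false, _root_.or_true], h⟩)
    (by
      intro t ht
      simp only [List.mem_cons, List.not_mem_nil, or_false] at ht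
      rcases ht with rfl | rfl
      · exact tor_F4_8 F
      · exact tor_F4_12 F)
  have h8 : (((ev 8 (Nat.card F : ℕ)).natAbs : ℕ) : ℤ) = (Nat.card F : ℤ) ^ 4 + 1 := by
    rw [← ev8, Int.natCast_natAbs, abs_of_pos (ev_pos (by norm_num) _)]
  have h12 : (((ev 12 (Nat.card F : ℕ)).natAbs : ℕ) : ℤ) = (Nat.card F : ℤ) ^ 4 - (Nat.card F : ℤ) ^ 2 + 1 := by
    rw [← ev12, Int.natCast_natAbs, abs_of_pos (ev_pos (by norm_num) _)]
  simp only [List.mem_cons, List.not_mem_nil, or_false] at ht ht'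
  have hF : 2 ≤ Nat.card F := Finite.one_lt_card
  exact num_F4 B.A (q := (Nat.card F : ℤ)) (by exact_mod_cast hF)
    (by rcases ht with rfl | rfl
        · left; rw [hp, h8]
        · right; rw [hp, h12])
    (by rcases ht' with rfl | rfl
        · left; rw [hn, h8]
        · right; rw [hn, h12])

/-- **No `F₄(q)`.** -/
theorem not_F4 {S : Type*} [Group S] (h : Cfsg.Lie.IsoF4 S) {p f n m : ℕ} (B : Bad S p f n m) : False := by
  obtain ⟨F, _, _, ⟨e⟩⟩ := h
  exact not_F4' F (B.congr e)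

/-! ### `E₈(q)` -/

theorem prime_le_seven {r : ℕ} (hr : r.Prime) (h : r ∣ 696729600) : r ≤ 7 := by
  have h' : r ∣ 2 ^ 14 * 3 ^ 5 * 5 ^ 2 * 7 := h
  rcases hr.dvd_mul.1 h' with h' | h'
  · rcases hr.dvd_mul.1 h' with h' | h'
    · have := prime_le_three hr h'
      omega
    · have := Nat.le_of_dvd (by norm_num) (hr.dvd_of_dvd_pow h')
      omega
  · exact Nat.le_of_dvd (by norm_num) h'

theorem tor_E8_15 (F : Type u) [Field F] [Finite F] :
    Tor ↥(chevE8.group F) (Nat.card F) 15 (ev 15 (Nat.card F : ℕ)).natAbs := by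
  let cs : CoxeterSystem CoxeterMatrix.E₈ CoxeterMatrix.E₈.Group := CoxeterMatrix.E₈.toCoxeterSystem
  have := finite_W e8T cs
  refine tor_of e8T cs inv_E8 AdjE8.hA AdjE8.chain15 AdjE8.tor15_15 (by norm_num) (by decide)
    (fun q => by rw [pv15, ev15]) ?_ F (fun r hr h => dvd15 hr h)
  intro r hr h
  rw [Cfsg.Agent.S1093.result (⟨8, CoxeterMatrix.E₈⟩, 696729600) (by simp)] at h
  have := prime_le_seven hr h
  omega

theorem tor_E8_20 (F : Type u) [Field F] [Finite F] :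
    Tor ↥(chevE8.group F) (Nat.card F) 20 (ev 20 (Nat.card F : ℕ)).natAbs := by
  let cs : CoxeterSystem CoxeterMatrix.E₈ CoxeterMatrix.E₈.Group := CoxeterMatrix.E₈.toCoxeterSystem
  have := finite_W e8T cs
  refine tor_of e8T cs inv_E8 AdjE8.hA AdjE8.chain20 AdjE8.tor20_20 (by norm_num) (by decide)
    (fun q => by rw [pv20, ev20]) ?_ F (fun r hr h => dvd20 hr h)
  intro r hr h
  rw [Cfsg.Agent.S1093.result (⟨8, CoxeterMatrix.E₈⟩, 696729600) (by simp)] at h
  have := prime_le_seven hr h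
  omega

theorem tor_E8_24 (F : Type u) [Field F] [Finite F] :
    Tor ↥(chevE8.group F) (Nat.card F) 24 (ev 24 (Nat.card F : ℕ)).natAbs := by
  let cs : CoxeterSystem CoxeterMatrix.E₈ CoxeterMatrix.E₈.Group := CoxeterMatrix.E₈.toCoxeterSystem
  have := finite_W e8T cs
  refine tor_of e8T cs inv_E8 AdjE8.hA AdjE8.chain24 AdjE8.tor24_24 (by norm_num) (by decide)
    (fun q => by rw [pv24, ev24]) ?_ F (fun r hr h => dvd24 hr h)
  intro r hr h
  rw [Cfsg.Agent.S1093.result (⟨8, CoxeterMatrix.E₈⟩, 696729600) (by simp)] at h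
  have := prime_le_seven hr h
  omega

theorem tor_E8_30 (F : Type u) [Field F] [Finite F] :
    Tor ↥(chevE8.group F) (Nat.card F) 30 (ev 30 (Nat.card F : ℕ)).natAbs := by
  let cs : CoxeterSystem CoxeterMatrix.E₈ CoxeterMatrix.E₈.Group := CoxeterMatrix.E₈.toCoxeterSystem
  have := finite_W e8T cs
  refine tor_of e8T cs inv_E8 AdjE8.hA AdjE8.chain30 AdjE8.tor30_30 (by norm_num) (by decide)
    (fun q => by rw [pv30, ev30]) ?_ F (fun r hr h => dvd30 hr h)
  intro r hr h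
  rw [Cfsg.Agent.S1093.result (⟨8, CoxeterMatrix.E₈⟩, 696729600) (by simp)] at h
  have := prime_le_seven hr h
  omega

theorem e8_bounds {q : ℤ} (hq : 3 ≤ q) {x : ℤ} (hx : x = q ^ 8 - q ^ 7 + q ^ 5 - q ^ 4 + q ^ 3 - q + 1 ∨
    x = q ^ 8 - q ^ 6 + q ^ 4 - q ^ 2 + 1 ∨ x = q ^ 8 - q ^ 4 + 1 ∨
    x = q ^ 8 + q ^ 7 - q ^ 5 - q ^ 4 - q ^ 3 + q + 1) :
    q ^ 8 - q ^ 7 + q ^ 5 - q ^ 4 + q ^ 3 - q + 1 ≤ x ∧ x ≤ q ^ 8 + q ^ 7 - q ^ 5 - q ^ 4 - q ^ 3 + q + 1 := by
  have h0 : (0 : ℤ) ≤ q := by linarith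
  have h1 : ∀ k : ℕ, q ^ k * 3 ≤ q ^ (k + 1) := by
    intro k
    rw [pow_succ]
    exact mul_le_mul_of_nonneg_left hq (pow_nonneg h0 k)
  have a1 := h1 1
  have a2 := h1 2
  have a3 := h1 3
  have a4 := h1 4
  have a5 := h1 5
  have a6 := h1 6
  have a7 := h1 7
  have b2 := pow_nonneg h0 2
  have b3 := pow_nonneg h0 3
  have b4 := pow_nonneg h0 4
  have b5 := pow_nonneg h0 5
  have b6 := pow_nonneg h0 6
  have b7 := pow_nonneg h0 7
  norm_num only [_root_.pow_one] at a1 a2 a3 a4 a5 a6 a7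
  rcases hx with rfl | rfl | rfl | rfl <;> constructor <;> linarith

/-- numerics for `E₈(q)` -/
theorem num_E8 {p f n m : ℕ} (A : Ar p f n m) {q : ℤ} (hq : 2 ≤ q)
    (hp : (p : ℤ) = q ^ 8 - q ^ 7 + q ^ 5 - q ^ 4 + q ^ 3 - q + 1 ∨
      (p : ℤ) = q ^ 8 - q ^ 6 + q ^ 4 - q ^ 2 + 1 ∨ (p : ℤ) = q ^ 8 - q ^ 4 + 1 ∨
      (p : ℤ) = q ^ 8 + q ^ 7 - q ^ 5 - q ^ 4 - q ^ 3 + q + 1)
    (hn : (n : ℤ) = q ^ 8 - q ^ 7 + q ^ 5 - q ^ 4 + q ^ 3 - q + 1 ∨
      (n : ℤ) = q ^ 8 - q ^ 6 + q ^ 4 - q ^ 2 + 1 ∨ (n : ℤ) = q ^ 8 - q ^ 4 + 1 ∨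
      (n : ℤ) = q ^ 8 + q ^ 7 - q ^ 5 - q ^ 4 - q ^ 3 + q + 1) : False := by
  rcases (by omega : q = 2 ∨ 3 ≤ q) with rfl | h3
  · norm_num at hp hn
    obtain ⟨e, he, h1, h2⟩ := eq_one_of_sq A (cast_sq (by
      have hp' : (151 : ℤ) ≤ p := by omega
      have hn' : (n : ℤ) ≤ 331 := by omega
      nlinarith only [hp', hn']))
    (clear * - hp hn he h1; omega)
  · obtain ⟨hp1, hp2⟩ := e8_bounds h3 hp
    obtain ⟨hn1, hn2⟩ := e8_bounds h3 hn
    have h0 : (0 : ℤ) ≤ q := by linarith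
    have h1 : ∀ k : ℕ, q ^ k * 3 ≤ q ^ (k + 1) := by
      intro k
      rw [pow_succ]
      exact mul_le_mul_of_nonneg_left h3 (pow_nonneg h0 k)
    have a1 := h1 1
    have a2 := h1 2
    have a3 := h1 3
    have a4 := h1 4
    have a5 := h1 5
    have a6 := h1 6
    have a7 := h1 7
    have b2 := pow_nonneg h0 2
    have b3 := pow_nonneg h0 3
    have b4 := pow_nonneg h0 4
    have b5 := pow_nonneg h0 5
    have b6 := pow_nonneg h0 6
    have b7 := pow_nonneg h0 7
    norm_num only [_root_.pow_one] at a1 a2 a3 a4 a5 a6 a7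
    have hbig : (10 : ℤ) ≤ p := by linarith only [h3, hp1, a1, a2, a3, a4, a5, a6, a7]
    have hnp : (n : ℤ) ≤ 3 * p := by linarith
    obtain ⟨e, he, h4, h5⟩ := eq_one_of_sq A (cast_sq (by nlinarith only [h3, hp1, hn2, a1, a2, a3, a4, a7]))
    rcases he with rfl | rfl <;> linarith

theorem not_E8' (F : Type u) [Field F] [Finite F] {p f n m : ℕ}
    (B : Bad ↥(chevE8.group F) p f n m) : False := by
  obtain ⟨t, ht, t', ht', hp, hn⟩ := B.torus (q := Nat.card F)
    [(15, (ev 15 (Nat.card F : ℕ)).natAbs), (20, (ev 20 (Nat.card F : ℕ)).natAbs),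
      (24, (ev 24 (Nat.card F : ℕ)).natAbs), (30, (ev 30 (Nat.card F : ℕ)).natAbs)]
    (by
      intro r hr hd hnc
      rcases adj_E8 F hr hd with h | h | h | h | h | h
      · rw [h] at hnc
        exact absurd Relation.ReflTransGen.refl hnc
      · exact absurd h.conn.symm hnc
      · exact ⟨(15, (ev 15 (Nat.card F : ℕ)).natAbs), by simp only [_root_.List.mem_cons, _root_.Prod.mk.injEq, _root_.Nat.reduceEqDiff, _root_.false_and, _root_.List.not_mem_nil, _root_.or_self, _root_.or_false], h⟩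
      · exact ⟨(20, (ev 20 (Nat.card F : ℕ)).natAbs), by simp only [_root_.List.mem_cons, _root_.Prod.mk.injEq, _root_.Nat.reduceEqDiff, _root_.false_and, _root_.List.not_mem_nil, _root_.or_self, _root_.or_false, _root_.or_true], h⟩
      · exact ⟨(24, (ev 24 (Nat.card F : ℕ)).natAbs), by simp only [_root_.List.mem_cons, _root_.Prod.mk.injEq, _root_.Nat.reduceEqDiff, _root_.false_and, _root_.List.not_mem_nil, _root_.or_self, _root_.or_false, _root_.or_true], h⟩
      · exact ⟨(30, (ev 30 (Nat.card F : ℕ)).natAbs), by simp only [_root_.List.mem_cons, _root_.Prod.mk.injEq, _root_.Nat.reduceEqDiff, _root_.false_and, _root_.List.not_mem_nil, _root_.or_false, _root_.or_true], h⟩)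
    (by
      intro t ht
      simp only [List.mem_cons, List.not_mem_nil, or_false] at ht
      rcases ht with rfl | rfl | rfl | rfl
      · exact tor_E8_15 F
      · exact tor_E8_20 F
      · exact tor_E8_24 F
      · exact tor_E8_30 F)
  have h15 : (((ev 15 (Nat.card F : ℕ)).natAbs : ℕ) : ℤ) = ev 15 (Nat.card F : ℕ) := by
    rw [Int.natCast_natAbs, abs_of_pos (ev_pos (by norm_num) _)]
  have h20 : (((ev 20 (Nat.card F : ℕ)).natAbs : ℕ) : ℤ) = ev 20 (Nat.card F : ℕ) := by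
    rw [Int.natCast_natAbs, abs_of_pos (ev_pos (by norm_num) _)]
  have h24 : (((ev 24 (Nat.card F : ℕ)).natAbs : ℕ) : ℤ) = ev 24 (Nat.card F : ℕ) := by
    rw [Int.natCast_natAbs, abs_of_pos (ev_pos (by norm_num) _)]
  have h30 : (((ev 30 (Nat.card F : ℕ)).natAbs : ℕ) : ℤ) = ev 30 (Nat.card F : ℕ) := by
    rw [Int.natCast_natAbs, abs_of_pos (ev_pos (by norm_num) _)]
  replace h15 := h15.trans (ev15 _)
  replace h20 := h20.trans (ev20 _)
  replace h24 := h24.trans (ev24 _)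
  replace h30 := h30.trans (ev30 _)
  have hF : 2 ≤ Nat.card F := Finite.one_lt_card
  have hval : ∀ {t : ℕ × ℕ} {x : ℕ}, t ∈ [(15, (ev 15 (Nat.card F : ℕ)).natAbs), (20, (ev 20 (Nat.card F : ℕ)).natAbs),
      (24, (ev 24 (Nat.card F : ℕ)).natAbs), (30, (ev 30 (Nat.card F : ℕ)).natAbs)] → x = t.2 →
      (x : ℤ) = (Nat.card F : ℤ) ^ 8 - (Nat.card F : ℤ) ^ 7 + (Nat.card F : ℤ) ^ 5 - (Nat.card F : ℤ) ^ 4 +
        (Nat.card F : ℤ) ^ 3 - (Nat.card F : ℤ) + 1 ∨
      (x : ℤ) = (Nat.card F : ℤ) ^ 8 - (Nat.card F : ℤ) ^ 6 + (Nat.card F : ℤ) ^ 4 - (Nat.card F : ℤ) ^ 2 + 1 ∨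
      (x : ℤ) = (Nat.card F : ℤ) ^ 8 - (Nat.card F : ℤ) ^ 4 + 1 ∨
      (x : ℤ) = (Nat.card F : ℤ) ^ 8 + (Nat.card F : ℤ) ^ 7 - (Nat.card F : ℤ) ^ 5 - (Nat.card F : ℤ) ^ 4 -
        (Nat.card F : ℤ) ^ 3 + (Nat.card F : ℤ) + 1 := by
    intro t x ht hx
    simp only [List.mem_cons, List.not_mem_nil, or_false] at ht
    rcases ht with rfl | rfl | rfl | rfl
    · left; rw [hx]; exact h15
    · right; left; rw [hx]; exact h20
    · right; right; left; rw [hx]; exact h24
    · right; right; right; rw [hx]; exact h30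
  exact num_E8 B.A (q := (Nat.card F : ℤ)) (by exact_mod_cast hF) (hval ht hp) (hval ht' hn)

/-- **No `E₈(q)`.** -/
theorem not_E8 {S : Type*} [Group S] (h : Cfsg.Lie.IsoE8 S) {p f n m : ℕ} (B : Bad S p f n m) : False := by
  obtain ⟨F, _, _, ⟨e⟩⟩ := h
  exact not_E8' F (B.congr e)

end Cfsg.Agent.H371.Core
end
end
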