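import Cfsg.Agent.H371.Core.TwF4
import Cfsg.Agent.H371.Core.Fam
import Cfsg.Agent.H378.TwAdj
import Cfsg.Agent.H493.PGE7_m3
import Cfsg.Agent.H378.RegE7
import Cfsg.Agent.H318.SixMain
import Cfsg.Agent.S1064
import Cfsg.Agent.S1066
import Cfsg.Agent.Prune
set_option linter.all false
prune_inst 0x7f00000000000000000000000000000000000000000000000000000000000000000000000000000000000000000000000000000000000000000000000000000000000000000000000000000000000000003fffffffffffffffffffffffffffbeffbdffffffff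
open scoped Cfsg.Agent.FastGrp

/-!
# `E₆(q)`, `E₇(q)`, `²E₆(q)` (helper371)
-/

set_option autoImplicit false
set_option linter.unusedSectionVars false

namespace Cfsg.Agent.H371.Core

open Cfsg Cfsg.Lie Cfsg.Lie.ChevalleyDatum Cfsg.Agent.H94 Cfsg.Agent.H378 Cfsg.Agent.H378.ExcAdj
open Cfsg.Agent.H564.NearTwo

/-! ### `E₆(q)` -/

/-- **No `E₆(q)`.** -/
theorem not_E6 {S : Type*} [Group S] (h : Cfsg.Lie.IsoChevE6 S) {p f n m : ℕ} (B : Bad S p f n m) : False := by
  obtain ⟨F, _, _, ⟨e⟩⟩ := h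
  refine (B.congr e).not_two ?_
  intro a b ha hb ha2 hb2 hda hdb
  rcases ExcNear.near_E6 F ha hda with h1 | h1
  · exact Or.inl h1.conn.symm
  · rcases ExcNear.near_E6 F hb hdb with h2 | h2
    · exact Or.inr (Or.inl h2.conn.symm)
    · refine Or.inr (Or.inr (conn_of_conn ?_))
      exact H493.PGE6.conn9 ha hb (H378.ExcNear.not_dvd_of_od ha h1 (by norm_num) (by norm_num))
        (H378.ExcNear.not_dvd_of_od hb h2 (by norm_num) (by norm_num)) (H378.CycTab.dvd9 ha h1) (H378.CycTab.dvd9 hb h2)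

/-! ### `E₇(q)` -/

/-- **No `E₇(q)`.** -/
theorem not_E7 {S : Type*} [Group S] (h : Cfsg.Lie.IsoE7 S) {p f n m : ℕ} (B : Bad S p f n m) : False := by
  obtain ⟨F, _, _, ⟨e⟩⟩ := h
  have B' := B.congr e
  by_cases h3 : Nat.card F ≤ 3
  · have hcard := Cfsg.Agent.S1064.result (F := F) rfl
    rw [← Nat.card_eq_fintype_card] at hcard
    have h1 : 1 < Nat.card F := Finite.one_lt_card
    rcases (by omega : Nat.card F = 2 ∨ Nat.card F = 3) with hF | hF
    · rw [hF] at hcard
      have hN : Nat.card ↥(chevE7.group F) = 7997476042075799759100487262680802918400 := by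
        norm_num at hcard
        exact hcard
      refine B'.card_false hN {73, 127} (fun r hr hd => ?_) (by decide +kernel)
      rcases ExcNear.near_E7 (F := F) hr hd with h | ⟨-, h | h⟩
      · exact Or.inl h.conn.symm
      · right
        have h7 := H378.CycTab.dvd7 hr h
        rw [H378.CycTab.pv7, hF] at h7
        norm_num at h7
        have h8 : r ∣ 127 := by exact_mod_cast h7
        rw [(Nat.prime_dvd_prime_iff_eq hr (by norm_num)).1 h8]
        simp
      · right
        have h7 := H378.CycTab.dvd9 hr h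
        rw [H378.CycTab.pv9, hF] at h7
        norm_num at h7
        have h8 : r ∣ 73 := by exact_mod_cast h7
        rw [(Nat.prime_dvd_prime_iff_eq hr (by norm_num)).1 h8]
        simp
    · rw [hF] at hcard
      have hN : Nat.card ↥(chevE7.group F) =
          (3 ^ 63 * (3 ^ 2 - 1) * (3 ^ 6 - 1) * (3 ^ 8 - 1) * (3 ^ 10 - 1) * (3 ^ 12 - 1) * (3 ^ 14 - 1) *
            (3 ^ 18 - 1)) / 2 := by
        rw [← hcard]
        norm_num
      refine B'.card_false hN {757, 1093} (fun r hr hd => ?_) (by decide +kernel)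
      rcases ExcNear.near_E7 (F := F) hr hd with h | ⟨-, h | h⟩
      · exact Or.inl h.conn.symm
      · right
        have h7 := H378.CycTab.dvd7 hr h
        rw [H378.CycTab.pv7, hF] at h7
        norm_num at h7
        have h8 : r ∣ 1093 := by exact_mod_cast h7
        rw [(Nat.prime_dvd_prime_iff_eq hr (by norm_num)).1 h8]
        simp
      · right
        have h7 := H378.CycTab.dvd9 hr h
        rw [H378.CycTab.pv9, hF] at h7
        norm_num at h7
        have h8 : r ∣ 757 := by exact_mod_cast h7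
        rw [(Nat.prime_dvd_prime_iff_eq hr (by norm_num)).1 h8]
        simp
  · refine B'.not_two ?_
    intro a b ha hb ha2 hb2 hda hdb
    rcases ExcNear.near_E7 (F := F) ha hda with h | ⟨h, -⟩
    · exact Or.inl h.conn.symm
    · exact absurd h h3

/-! ### `²E₆(q)` -/

section

open Cfsg.Agent.H493 Cfsg.Agent.H493.PGTorus Cfsg.Agent.H493.PGCyc

variable {K : Type} [Field K] [Fintype K] {q : ℕ} (hq : IsPrimePow q) (hK : Fintype.card K = q ^ 2)

include hq hK

theorem three_conn_2E6 : H94.PG.Conn ↥(twistedE6 K q) 2 3 := by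
  obtain ⟨x, y, hxy, hx1, hx2, hy1, hy2⟩ := H318.row_twE6 (G := ↥(twistedE6 K q))
    ⟨K, inferInstance, inferInstance, q, hq, hK, ⟨MulEquiv.refl _⟩⟩
  refine H94.PG.Adj.conn ⟨Nat.prime_two, Nat.prime_three, by norm_num, x, y, ?_, ?_, hxy⟩
  · have := Fact.mk Nat.prime_two
    exact orderOf_eq_prime (by rw [pow_two]; exact hx2) hx1
  · have := Fact.mk Nat.prime_three
    exact orderOf_eq_prime (by rw [pow_succ, pow_two]; exact hy2) hy1

/-- the class of `2` -/
theorem main_2E6 {r : ℕ} (hr : r.Prime) (hr3 : r ≠ 3)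
    (h : r ∣ q ∨ (r : ℤ) ∣ pv c1 q ∨ (r : ℤ) ∣ pv c2 q ∨ (r : ℤ) ∣ pv c3 q ∨ (r : ℤ) ∣ pv c4 q ∨
      (r : ℤ) ∣ pv c6 q ∨ (r : ℤ) ∣ pv c10 q) : H94.PG.Conn ↥(twistedE6 K q) 2 r := by
  obtain ⟨s, k, hs, hk, hsq⟩ := id hq
  have hs := hs.nat_prime
  have hsd : s ∣ q := hsq ▸ dvd_pow_self s hk.ne'
  have h1 := conn_of_conn (PGE6T.conn_main hq hK hr hs hsd hr3 h)
  have h2 : H94.PG.Conn ↥(twistedE6 K q) 2 s := by
    rcases Nat.even_or_odd q with he | ho
    · have h3 : 2 ∣ s := by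
        have : 2 ∣ s ^ k := by rw [hsq]; exact he.two_dvd
        exact Nat.prime_two.dvd_of_dvd_pow this
      rw [(Nat.prime_dvd_prime_iff_eq Nat.prime_two hs).1 h3]
      exact Relation.ReflTransGen.refl
    · refine conn_of_conn (PGE6T.conn_main hq hK Nat.prime_two hs hsd (by norm_num) (Or.inr (Or.inl ?_)))
      rw [pv_c1]
      obtain ⟨c, hc⟩ := ho
      rw [hc]
      push_cast
      exact ⟨c, by ring⟩
  exact h2.trans h1.symm

theorem eight_2E6 (hq2 : q ≠ 2) {r : ℕ} (hr : r.Prime) (hr3 : r ≠ 3) (h : (r : ℤ) ∣ pv c8 q) :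
    H94.PG.Conn ↥(twistedE6 K q) 2 r := by
  have hq1 := hq.one_lt
  rcases Nat.even_or_odd q with he | ho
  · obtain ⟨c, hc⟩ := he
    obtain ⟨s, hs, hs3, hsd⟩ : ∃ s : ℕ, s.Prime ∧ s ≠ 3 ∧ (s ∣ q - 1 ∨ s ∣ q + 1) := by
      by_contra hcon
      push Not at hcon
      have h1 : ∀ {d : ℕ}, d.Prime → d ∣ q - 1 → d = 3 := by
        intro d hd hd1
        by_contra h3
        exact (hcon d hd h3).1 hd1
      have h2 : ∀ {d : ℕ}, d.Prime → d ∣ q + 1 → d = 3 := by
        intro d hd hd1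
        by_contra h3
        exact (hcon d hd h3).2 hd1
      obtain ⟨d, hd, hd1⟩ := Nat.exists_prime_and_dvd (n := q - 1) (by omega)
      obtain ⟨d', hd', hd1'⟩ := Nat.exists_prime_and_dvd (n := q + 1) (by omega)
      have e1 := h1 hd hd1
      have e2 := h2 hd' hd1'
      subst e1 e2
      omega
    have h2 : H94.PG.Conn ↥(twistedE6 K q) r s := by
      rcases hsd with hsd | hsd
      · refine conn_of_conn (PGE6T.conn8_1 hq hK hr hs hr3 hs3 h ?_)
        rw [pv_c1]
        have := Int.natCast_dvd_natCast.2 hsd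
        rwa [Nat.cast_sub (by omega), Nat.cast_one] at this
      · refine conn_of_conn (PGE6T.conn8_2 hq hK hr hs hr3 hs3 h ?_)
        rw [pv_c2]
        have := Int.natCast_dvd_natCast.2 hsd
        rwa [Nat.cast_add, Nat.cast_one] at this
    refine (main_2E6 hq hK hs hs3 ?_).trans h2.symm
    rcases hsd with hsd | hsd
    · right; left
      rw [pv_c1]
      have := Int.natCast_dvd_natCast.2 hsd
      rwa [Nat.cast_sub (by omega), Nat.cast_one] at this
    · right; right; left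
      rw [pv_c2]
      have := Int.natCast_dvd_natCast.2 hsd
      rwa [Nat.cast_add, Nat.cast_one] at this
  · refine (conn_of_conn (PGE6T.conn8_1 hq hK hr Nat.prime_two hr3 (by norm_num) h ?_)).symm
    rw [pv_c1]
    obtain ⟨c, hc⟩ := ho
    rw [hc]
    push_cast
    exact ⟨c, by ring⟩

theorem twelve_2E6 (hq2 : q ≠ 2) {r : ℕ} (hr : r.Prime) (hr3 : r ≠ 3) (h : (r : ℤ) ∣ pv c12 q) :
    H94.PG.Conn ↥(twistedE6 K q) 2 r := by
  have hq1 := hq.one_lt
  obtain ⟨s, hs, hs3, -, hsd⟩ := ExcNear.exists_three (q := q - 1) (by omega)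
  have hsd' : (s : ℤ) ∣ pv c6 q := by
    rw [pv_c6]
    have := Int.natCast_dvd_natCast.2 hsd
    push_cast [Nat.cast_sub (by omega : 1 ≤ q)] at this
    refine this.trans (dvd_of_eq ?_)
    ring
  have h2 := conn_of_conn (PGE6T.conn12_6 hq hK hr hs hr3 hs3 h hsd')
  exact (main_2E6 hq hK hs hs3 (by tauto)).trans h2.symm

end

/-- **No `²E₆(q)`.** -/
theorem not_2E6 {S : Type*} [Group S] (h : Cfsg.Lie.Iso2E6 S) {p f n m : ℕ} (B : Bad S p f n m) : False := by
  obtain ⟨K, _, _, q, hq, hK, ⟨e⟩⟩ := h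
  have B' := B.congr e
  have hcard := Cfsg.Agent.S1066.result hq hK
  have hcov : ∀ r : ℕ, r.Prime → r ∣ Nat.card ↥(twistedE6 K q) → H94.PG.Conn ↥(twistedE6 K q) 2 r ∨
      (r ≠ 3 ∧ ((r : ℤ) ∣ H493.PGTorus.pv H493.PGCyc.c8 q ∨ (r : ℤ) ∣ H493.PGTorus.pv H493.PGCyc.c12 q ∨
        (r : ℤ) ∣ H493.PGTorus.pv H493.PGCyc.c18 q)) := by
    intro r hr hd
    by_cases hr3 : r = 3
    · rw [hr3]
      exact Or.inl (three_conn_2E6 hq hK)
    · rcases H493.PGE6T.cover hq.two_le hr (by rw [← hcard]; exact hd.mul_left _) with h | h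
      · exact Or.inl (main_2E6 hq hK hr hr3 h)
      · exact Or.inr ⟨hr3, h⟩
  by_cases hq2 : q = 2
  · subst hq2
    have hN : Nat.card ↥(twistedE6 K 2) =
        (2 ^ 36 * (2 ^ 2 - 1) * (2 ^ 5 + 1) * (2 ^ 6 - 1) * (2 ^ 8 - 1) * (2 ^ 9 + 1) * (2 ^ 12 - 1)) / 3 := by
      rw [← hcard]
      norm_num
    have B'' : Bad ↥(twistedE6 K 2) p f n m := B'
    refine B''.card_false hN {13, 17, 19} (fun r hr hd => ?_) (by decide +kernel)
    rcases hcov r hr hd with h | ⟨hr3, h | h | h⟩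
    · exact Or.inl h
    · right
      rw [H493.PGCyc.pv_c8] at h
      norm_num at h
      have h8 : r ∣ 17 := by exact_mod_cast h
      rw [(Nat.prime_dvd_prime_iff_eq hr (by norm_num)).1 h8]
      simp
    · right
      rw [H493.PGCyc.pv_c12] at h
      norm_num at h
      have h8 : r ∣ 13 := by exact_mod_cast h
      rw [(Nat.prime_dvd_prime_iff_eq hr (by norm_num)).1 h8]
      simp
    · right
      rw [H493.PGCyc.pv_c18] at h
      norm_num at h
      have h8 : r ∣ 3 * 19 := by exact_mod_cast h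
      rcases hr.dvd_mul.1 h8 with h8 | h8
      · exact absurd ((Nat.prime_dvd_prime_iff_eq hr Nat.prime_three).1 h8) hr3
      · rw [(Nat.prime_dvd_prime_iff_eq hr (by norm_num)).1 h8]
        simp
  · refine B'.not_two ?_
    intro a b ha hb ha2 hb2 hda hdb
    rcases hcov a ha hda with h | ⟨ha3, h | h | h⟩
    · exact Or.inl h
    · exact Or.inl (eight_2E6 hq hK hq2 ha ha3 h)
    · exact Or.inl (twelve_2E6 hq hK hq2 ha ha3 h)
    · rcases hcov b hb hdb with h' | ⟨hb3, h' | h' | h'⟩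
      · exact Or.inr (Or.inl h')
      · exact Or.inr (Or.inl (eight_2E6 hq hK hq2 hb hb3 h'))
      · exact Or.inr (Or.inl (twelve_2E6 hq hK hq2 hb hb3 h'))
      · exact Or.inr (Or.inr (conn_of_conn (H493.PGE6T.conn18 hq hK ha hb ha3 hb3 h h')))

end Cfsg.Agent.H371.Core
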